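/-
helper84: S4719-[EIMG].  The image of an elementary abelian 2-group modulo a subgroup of order two.
-/
import Mathlib

set_option autoImplicit false

namespace Cfsg.Agent.Lib.Helper79.S4719

universe u

/-- [EIMG] -/
theorem exists_elemAb_quotient {C : Type u} [Group C] [Finite C] (Z : Subgroup C) [Z.Normal]
    (hZ : Nat.card Z = 2) (E : Subgroup C) (hZE : Z ≤ E) (hE : IsMulCommutative E)
    (hexp : ∀ x ∈ E, x * x = 1) (k : ℕ) (hcard : Nat.card E = 2 ^ (k + 1)) :
    ∃ E' : Subgroup (C ⧸ Z), IsMulCommutative E' ∧ (∀ x ∈ E', x * x = 1) ∧ Nat.card E' = 2 ^ k := by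
  refine ⟨E.map (QuotientGroup.mk' Z), ⟨⟨?_⟩⟩, ?_, ?_⟩
  · rintro ⟨_, a, ha, rfl⟩ ⟨_, b, hb, rfl⟩
    apply Subtype.ext
    show QuotientGroup.mk' Z a * QuotientGroup.mk' Z b = QuotientGroup.mk' Z b * QuotientGroup.mk' Z a
    rw [← map_mul, ← map_mul]
    have : (⟨a, ha⟩ : E) * ⟨b, hb⟩ = ⟨b, hb⟩ * ⟨a, ha⟩ := hE.is_comm.comm _ _
    have h2 : a * b = b * a := congrArg Subtype.val this
    rw [h2]
  · rintro _ ⟨a, ha, rfl⟩
    rw [← map_mul, hexp a ha, map_one]
  · have hcomap : (E.map (QuotientGroup.mk' Z)).comap (QuotientGroup.mk' Z) = E := by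
      rw [Subgroup.comap_map_eq, QuotientGroup.ker_mk']
      exact sup_eq_left.2 hZE
    have hidx : (E.map (QuotientGroup.mk' Z)).index = E.index := by
      rw [← Subgroup.index_comap_of_surjective _ (QuotientGroup.mk'_surjective Z), hcomap]
    have h1 := Subgroup.card_mul_index E
    have h2 := Subgroup.card_mul_index (E.map (QuotientGroup.mk' Z))
    have h3 := Subgroup.card_eq_card_quotient_mul_card_subgroup Z
    rw [hidx] at h2
    rw [hZ, ← h2, ← h1, hcard] at h3
    have hpos : 0 < E.index := Nat.pos_of_ne_zero Subgroup.index_ne_zero_of_finite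
    have h4 : 2 ^ (k + 1) * E.index = 2 * Nat.card ↥(E.map (QuotientGroup.mk' Z)) * E.index := by
      rw [h3]; ring
    have h5 := Nat.eq_of_mul_eq_mul_right hpos h4
    rw [pow_succ, mul_comm] at h5
    exact (Nat.eq_of_mul_eq_mul_left (by norm_num) h5).symm

end Cfsg.Agent.Lib.Helper79.S4719
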