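/-
helper84: S4719-[COMPA].  A component `L` moved by the involution `t` has `|L/Z(L)| ≤ |C_G(t)|`.
-/
import Mathlib
import Cfsg.Agent.Lib.Helper79.S4719.Defs
import Cfsg.Agent.Lib.Helper21.Components

set_option autoImplicit false
set_option linter.style.haveILetI false

namespace Cfsg.Agent.Lib.Helper79.S4719

open Cfsg

universe u

variable {G : Type u} [Group G]

/-- [COMPA] -/
theorem card_quot_center_le_of_conj_ne [Finite G] (L : Subgroup G) (hL : IsComponent L) (t : G)
    (ht : t * t = 1) (hne : L.map (MulAut.conj t).toMonoidHom ≠ L) :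
    Nat.card (↥L ⧸ Subgroup.center ↥L) ≤ Nat.card (Subgroup.centralizer ({t} : Set G)) := by
  have htinv : t⁻¹ = t := inv_eq_of_mul_eq_one_left ht
  have hL' : IsComponent (L.map (MulAut.conj t).toMonoidHom) :=
    Cfsg.Agent.Lib.Helper21.isComponent_map_conj hL t
  have hcomm := Cfsg.Agent.Lib.Helper21.component_commutator_eq_bot_of_ne hL hL' hne.symm
  rw [Subgroup.commutator_eq_bot_iff_le_centralizer] at hcomm
  -- elements of L commute with t-conjugates of elements of L
  have hc : ∀ x ∈ L, ∀ y ∈ L, x * (t * y * t⁻¹) = (t * y * t⁻¹) * x := by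
    intro x hx y hy
    have h1 := Subgroup.mem_centralizer_iff.1 (hcomm hx) (t * y * t⁻¹) ⟨y, hy, rfl⟩
    exact h1.symm
  -- the homomorphism x ↦ x * x^t into the centraliser of t
  let φ : ↥L →* ↥(Subgroup.centralizer ({t} : Set G)) :=
    { toFun := fun x => ⟨(x : G) * (t * x * t⁻¹), by
        rw [Subgroup.mem_centralizer_singleton_iff]
        have h1 := hc x x.2 x x.2
        calc (x : G) * (t * x * t⁻¹) * t = (t * x * t⁻¹) * x * t := by rw [h1]
          _ = t * ((x : G) * (t * x * t)) := by rw [htinv]; group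
          _ = t * ((x : G) * (t * x * t⁻¹)) := by rw [htinv]⟩
      map_one' := by
        apply Subtype.ext
        simp
      map_mul' := by
        intro x y
        apply Subtype.ext
        have h1 := hc y y.2 x x.2
        show ((x * y : L) : G) * (t * ((x * y : L) : G) * t⁻¹) =
          ((x : G) * (t * x * t⁻¹)) * ((y : G) * (t * y * t⁻¹))
        rw [Subgroup.coe_mul]
        calc (x : G) * y * (t * ((x : G) * y) * t⁻¹)
            = (x : G) * ((y : G) * (t * x * t⁻¹)) * (t * y * t⁻¹) := by group
          _ = (x : G) * ((t * x * t⁻¹) * (y : G)) * (t * y * t⁻¹) := by rw [h1]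
          _ = ((x : G) * (t * x * t⁻¹)) * ((y : G) * (t * y * t⁻¹)) := by group }
  have hker : φ.ker ≤ Subgroup.center ↥L := by
    intro x hx
    rw [MonoidHom.mem_ker] at hx
    have h1 : (x : G) * (t * x * t⁻¹) = 1 := congrArg (fun z => ((z : Subgroup.centralizer ({t} : Set G)) : G)) hx
    have h2 : (x : G) = t * (x : G)⁻¹ * t⁻¹ := by
      have := eq_inv_of_mul_eq_one_left h1
      calc (x : G) = (t * x * t⁻¹)⁻¹ := this
        _ = t * (x : G)⁻¹ * t⁻¹ := by group
    rw [Subgroup.mem_center_iff]
    intro y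
    apply Subtype.ext
    rw [Subgroup.coe_mul, Subgroup.coe_mul]
    have h3 := hc y y.2 (x : G)⁻¹ (L.inv_mem x.2)
    rw [← h2] at h3
    exact h3
  have h1 : (Subgroup.center ↥L).index ≤ φ.ker.index :=
    Nat.le_of_dvd (Nat.pos_of_ne_zero Subgroup.index_ne_zero_of_finite) (Subgroup.index_dvd_of_le hker)
  have h2 : φ.ker.index = Nat.card φ.range := Subgroup.index_ker φ
  have h3 : Nat.card φ.range ≤ Nat.card (Subgroup.centralizer ({t} : Set G)) :=
    Nat.card_le_card_of_injective Subtype.val Subtype.val_injective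
  rw [← Subgroup.index_eq_card]
  omega

end Cfsg.Agent.Lib.Helper79.S4719
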