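/-
helper84: S4719-[FIT].  `|F(G)| ≤ 2^(ν_2 |G|) · |O(G)|`.
-/
import Mathlib
import Cfsg.Agent.Lib.Helper79.S4719.Defs
import Cfsg.Agent.Lib.Helper24.FittingStructure2
import Cfsg.Agent.Lib.Helper1.Fitting
import Cfsg.Agent.Lib.Helper1.PCore

set_option autoImplicit false
set_option linter.style.haveILetI false

namespace Cfsg.Agent.Lib.Helper79.S4719

open Cfsg

universe u

variable {G : Type u} [Group G]

/-- [FIT] -/
theorem card_fittingSubgroup_le [Finite G] :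
    Nat.card (fittingSubgroup G) ≤ 2 ^ (Nat.card G).factorization 2 * Nat.card (oddCore G) := by
  haveI : Fact (Nat.Prime 2) := ⟨Nat.prime_two⟩
  have h1 : Nat.card (fittingSubgroup G) ≤
      Nat.card (pCore 2 G ⊔ Cfsg.Agent.Lib.Helper24.pCoreCompl 2 G : Subgroup G) :=
    Subgroup.card_le_of_le (Cfsg.Agent.Lib.Helper24.fittingSubgroup_le_sup 2)
  haveI : (pCore 2 G).Normal := Cfsg.Agent.Lib.Helper1.pCore_normal 2
  have h2 : Nat.card (pCore 2 G ⊔ Cfsg.Agent.Lib.Helper24.pCoreCompl 2 G : Subgroup G) ≤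
      Nat.card (pCore 2 G) * Nat.card (Cfsg.Agent.Lib.Helper24.pCoreCompl 2 G) :=
    Nat.le_of_dvd (Nat.mul_pos Nat.card_pos Nat.card_pos)
      (Cfsg.Agent.Lib.Helper1.card_sup_dvd_mul_of_normal_left _ _)
  have h3 : Nat.card (pCore 2 G) ≤ 2 ^ (Nat.card G).factorization 2 := by
    obtain ⟨j, hj⟩ := IsPGroup.iff_card.1 (Cfsg.Agent.Lib.Helper1.pCore_isPGroup (G := G) 2)
    rw [hj]
    apply Nat.pow_le_pow_right (by norm_num)
    have hdvd : 2 ^ j ∣ Nat.card G := by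
      rw [← hj]; exact Subgroup.card_subgroup_dvd_card _
    exact (Nat.prime_two.pow_dvd_iff_le_factorization Nat.card_pos.ne').1 hdvd
  have h4 : Nat.card (Cfsg.Agent.Lib.Helper24.pCoreCompl 2 G) ≤ Nat.card (oddCore G) := by
    apply Subgroup.card_le_of_le
    apply le_sSup
    exact ⟨inferInstance, Cfsg.Agent.Lib.Helper24.card_pCoreCompl_coprime 2⟩
  calc Nat.card (fittingSubgroup G)
      ≤ Nat.card (pCore 2 G) * Nat.card (Cfsg.Agent.Lib.Helper24.pCoreCompl 2 G) := h1.trans h2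
    _ ≤ 2 ^ (Nat.card G).factorization 2 * Nat.card (oddCore G) := Nat.mul_le_mul h3 h4

end Cfsg.Agent.Lib.Helper79.S4719
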