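/-
helper84: S4719-[SCHUR].  A finite perfect group has order at most `n ^ (n ^ 3 + 1)`, `n` the order of its central
quotient (Schur, via Mathlib's `Subgroup.card_commutator_dvd_index_center_pow`).
-/
import Mathlib
import Cfsg.Agent.Lib.Helper79.S4719.Defs

set_option autoImplicit false

namespace Cfsg.Agent.Lib.Helper84.S4719

open scoped commutatorElement

universe u

variable {L : Type u} [Group L]

theorem commutatorElement_mul_central_left (a c z : L) (hz : z ∈ Subgroup.center L) :
    ⁅a * z, c⁆ = ⁅a, c⁆ := by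
  rw [commutatorElement_def, commutatorElement_def]
  have h : z * c = c * z := ((Subgroup.mem_center_iff.1 hz) c).symm
  calc a * z * c * (a * z)⁻¹ * c⁻¹ = a * (z * c) * z⁻¹ * a⁻¹ * c⁻¹ := by group
    _ = a * (c * z) * z⁻¹ * a⁻¹ * c⁻¹ := by rw [h]
    _ = a * c * a⁻¹ * c⁻¹ := by group

theorem commutatorElement_mul_central_right (a b z : L) (hz : z ∈ Subgroup.center L) :
    ⁅a, b * z⁆ = ⁅a, b⁆ := by
  rw [commutatorElement_def, commutatorElement_def]
  have h : z * a⁻¹ = a⁻¹ * z := ((Subgroup.mem_center_iff.1 hz) a⁻¹).symm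
  calc a * (b * z) * a⁻¹ * (b * z)⁻¹ = a * b * (z * a⁻¹) * z⁻¹ * b⁻¹ := by group
    _ = a * b * (a⁻¹ * z) * z⁻¹ * b⁻¹ := by rw [h]
    _ = a * b * a⁻¹ * b⁻¹ := by group

theorem card_commutatorSet_le [Finite L] :
    Nat.card (commutatorSet L) ≤ (Subgroup.center L).index * (Subgroup.center L).index := by
  classical
  let f : (L ⧸ Subgroup.center L) × (L ⧸ Subgroup.center L) → commutatorSet L :=
    fun x => ⟨⁅x.1.out, x.2.out⁆, commutator_mem_commutatorSet _ _⟩
  have hf : Function.Surjective f := by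
    rintro ⟨g, a, b, rfl⟩
    refine ⟨((a : L ⧸ Subgroup.center L), (b : L ⧸ Subgroup.center L)), ?_⟩
    apply Subtype.ext
    show ⁅(a : L ⧸ Subgroup.center L).out, (b : L ⧸ Subgroup.center L).out⁆ = ⁅a, b⁆
    obtain ⟨z, hz⟩ := QuotientGroup.mk_out_eq_mul (Subgroup.center L) a
    obtain ⟨z', hz'⟩ := QuotientGroup.mk_out_eq_mul (Subgroup.center L) b
    rw [hz, hz', commutatorElement_mul_central_left _ _ _ z.2,
      commutatorElement_mul_central_right _ _ _ z'.2]
  have := Nat.card_le_card_of_surjective f hf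
  rw [Nat.card_prod, ← Subgroup.index_eq_card] at this
  exact this

end Cfsg.Agent.Lib.Helper84.S4719

namespace Cfsg.Agent.Lib.Helper79.S4719

universe u

/-- [SCHUR] -/
theorem card_le_schurB {L : Type u} [Group L] [Finite L] (hperf : commutator L = ⊤) :
    Nat.card L ≤ schurB (Nat.card (L ⧸ Subgroup.center L)) := by
  rw [← Subgroup.index_eq_card]
  set n := (Subgroup.center L).index with hn
  have hn0 : 0 < n := Nat.pos_of_ne_zero Subgroup.index_ne_zero_of_finite
  have h1 := Subgroup.card_commutator_dvd_index_center_pow L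
  rw [hperf, Subgroup.card_top] at h1
  have h2 : Nat.card (commutatorSet L) ≤ n * n := Cfsg.Agent.Lib.Helper84.S4719.card_commutatorSet_le
  have h3 : Nat.card L ≤ n ^ (n * Nat.card (commutatorSet L) + 1) :=
    Nat.le_of_dvd (pow_pos hn0 _) h1
  refine h3.trans ?_
  unfold schurB
  apply Nat.pow_le_pow_right hn0
  have : n * Nat.card (commutatorSet L) ≤ n * (n * n) := Nat.mul_le_mul_left n h2
  have h4 : n * (n * n) = n ^ 3 := by ring
  omega

end Cfsg.Agent.Lib.Helper79.S4719
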