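/-
helper84: S4719-[GT], `_of` form (with [NUMB] as a hypothesis).  Commuting involutions `t₁, t₂` with `|C(t₁)|, |C(t₂)|, |C(t₁t₂)| ≤ c` and `ν_2 |G| ≤ a` bound `|G|`.
-/
import Mathlib
import Cfsg.Agent.Lib.Helper79.S4719.Defs
import Cfsg.Agent.Lib.Helper93.S4719.BW
import Cfsg.Agent.Lib.Helper84.S4719.Fit
import Cfsg.Agent.Lib.Helper84.S4719.CompA
import Cfsg.Agent.Lib.Helper41.S4719.Compb
import Cfsg.Agent.Lib.Helper84.S4719.Schur
import Cfsg.Agent.Lib.Helper1.PCore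
import Cfsg.Agent.Lib.Helper1.Fitting
import Cfsg.Agent.S1313

set_option autoImplicit false
set_option linter.style.haveILetI false

namespace Cfsg.Agent.Lib.Helper84.S4719

open Cfsg Cfsg.Agent.Lib.Helper79.S4719

theorem schurB_mono {n m : ℕ} (hn : 1 ≤ n) (hnm : n ≤ m) : schurB n ≤ schurB m := by
  unfold schurB
  calc n ^ (n ^ 3 + 1) ≤ m ^ (n ^ 3 + 1) := Nat.pow_le_pow_left hnm _
    _ ≤ m ^ (m ^ 3 + 1) := Nat.pow_le_pow_right (hn.trans hnm)
        (Nat.add_le_add_right (Nat.pow_le_pow_left hnm 3) 1)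

theorem compB_mono {c d : ℕ} (h : c ≤ d) : compB c ≤ compB d := by
  unfold compB
  exact Nat.factorial_le (Nat.mul_le_mul_left 2 (Nat.pow_le_pow_left h 2))

theorem le_compB (c : ℕ) : c ≤ compB c := by
  unfold compB
  refine le_trans ?_ (Nat.self_le_factorial _)
  nlinarith [Nat.zero_le c]

end Cfsg.Agent.Lib.Helper84.S4719

namespace Cfsg.Agent.Lib.Helper79.S4719

open Cfsg

universe u

variable {G : Type u} [Group G]

/-- [GT] modulo [NUMB] -/
theorem card_le_gtBound_of [Finite G]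
    (hNumB : ∀ ℓ : ℕ, 0 < ℓ → (∀ L : Subgroup G, IsComponent L → Nat.card L ≤ ℓ) →
      Nat.card (layer G) ≤ ℓ ^ (Nat.card G).factorization 2)
    (a c : ℕ) (ha : (Nat.card G).factorization 2 ≤ a)
    (t₁ t₂ : G) (h₁ : t₁ * t₁ = 1) (h₂ : t₂ * t₂ = 1) (hcomm : Commute t₁ t₂)
    (hc₁ : Nat.card (Subgroup.centralizer ({t₁} : Set G)) ≤ c)
    (hc₂ : Nat.card (Subgroup.centralizer ({t₂} : Set G)) ≤ c)
    (hc₃ : Nat.card (Subgroup.centralizer ({t₁ * t₂} : Set G)) ≤ c) :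
    Nat.card G ≤ gtBound a c := by
  have hc1 : 1 ≤ c := le_trans Nat.card_pos hc₁
  -- the odd core
  haveI hKn : (oddCore G).Normal := Cfsg.Agent.Lib.Helper1.pPrimeCore_normal 2
  have hKodd : Odd (Nat.card (oddCore G)) :=
    (Cfsg.Agent.Lib.Helper1.pPrimeCore_card_coprime (G := G) 2).odd_of_right
  have hK : Nat.card (oddCore G) ≤ c ^ 3 := by
    have h := card_le_of_klein (oddCore G) hKodd t₁ t₂ h₁ h₂ hcomm
    have e1 : Nat.card ↥(oddCore G ⊓ Subgroup.centralizer ({t₁} : Set G)) ≤ c :=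
      (Subgroup.card_le_of_le inf_le_right).trans hc₁
    have e2 : Nat.card ↥(oddCore G ⊓ Subgroup.centralizer ({t₂} : Set G)) ≤ c :=
      (Subgroup.card_le_of_le inf_le_right).trans hc₂
    have e3 : Nat.card ↥(oddCore G ⊓ Subgroup.centralizer ({t₁ * t₂} : Set G)) ≤ c :=
      (Subgroup.card_le_of_le inf_le_right).trans hc₃
    calc Nat.card (oddCore G) ≤ _ := h
      _ ≤ c * c * c := Nat.mul_le_mul (Nat.mul_le_mul e1 e2) e3
      _ = c ^ 3 := by ring
  -- the Fitting subgroup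
  have hF : Nat.card (fittingSubgroup G) ≤ 2 ^ a * c ^ 3 := by
    refine (card_fittingSubgroup_le (G := G)).trans ?_
    exact Nat.mul_le_mul (Nat.pow_le_pow_right (by norm_num) ha) hK
  -- components
  set ℓ := schurB (compB c) with hℓdef
  have hcB1 : 1 ≤ compB c := hc1.trans (Cfsg.Agent.Lib.Helper84.S4719.le_compB c)
  have hℓ0 : 0 < ℓ := by
    rw [hℓdef]; unfold schurB; exact pow_pos hcB1 _
  have hcomp : ∀ L : Subgroup G, IsComponent L → Nat.card L ≤ ℓ := by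
    intro L hL
    have hq : Nat.card (↥L ⧸ Subgroup.center ↥L) ≤ compB c := by
      by_cases heq : L.map (MulAut.conj t₁).toMonoidHom = L
      · exact (Cfsg.Agent.Lib.Helper41.S4719.card_quot_center_le_of_conj_eq L hL.2 t₁ h₁ heq).trans
          (Cfsg.Agent.Lib.Helper84.S4719.compB_mono hc₁)
      · exact ((card_quot_center_le_of_conj_ne L hL t₁ h₁ heq).trans hc₁).trans
          (Cfsg.Agent.Lib.Helper84.S4719.le_compB c)
    have hperf : commutator ↥L = ⊤ := Group.isPerfect_def.1 hL.2.1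
    have hq1 : 1 ≤ Nat.card (↥L ⧸ Subgroup.center ↥L) := Nat.card_pos
    exact (card_le_schurB hperf).trans (Cfsg.Agent.Lib.Helper84.S4719.schurB_mono hq1 hq)
  have hlayer : Nat.card (layer G) ≤ ℓ ^ a :=
    (hNumB ℓ hℓ0 hcomp).trans (Nat.pow_le_pow_right hℓ0 ha)
  -- F*(G)
  haveI hFn : (fittingSubgroup G).Normal := Cfsg.Agent.Lib.Helper1.fittingSubgroup_normal
  have hFstar : Nat.card (generalizedFittingSubgroup G) ≤ ℓ ^ a * (2 ^ a * c ^ 3) := by
    unfold generalizedFittingSubgroup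
    rw [sup_comm]
    have h := Nat.le_of_dvd (Nat.mul_pos Nat.card_pos Nat.card_pos)
      (Cfsg.Agent.Lib.Helper1.card_sup_dvd_mul_of_normal_left (fittingSubgroup G) (layer G))
    calc Nat.card ↥(fittingSubgroup G ⊔ layer G)
        ≤ Nat.card (fittingSubgroup G) * Nat.card (layer G) := h
      _ ≤ (2 ^ a * c ^ 3) * ℓ ^ a := Nat.mul_le_mul hF hlayer
      _ = ℓ ^ a * (2 ^ a * c ^ 3) := by ring
  unfold gtBound
  exact (Cfsg.Agent.S1313.result (H := G)).trans (Nat.factorial_le hFstar)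

end Cfsg.Agent.Lib.Helper79.S4719
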